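import Mathlib.Algebra.Homology.DerivedCategory.RightDerivedFunctorPlus
import Mathlib.Algebra.Homology.DerivedCategory.HomologySequence
import Mathlib.Algebra.Homology.DerivedCategory.ShortExact
import Mathlib.CategoryTheory.Triangulated.Adjunction

/-!
The right derived functor on `D⁺` agrees with a triangulated functor, and the resulting long exact
sequences.
-/

open CategoryTheory Limits Pretriangulated

universe w w' v v' u u'

namespace Groth.Agent.RDPlus

variable {C : Type u} [Category.{v} C] [Abelian C] [HasDerivedCategory.{w} C]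
  [EnoughInjectives C] {D : Type u'} [Category.{v'} D] [Abelian D] [HasDerivedCategory.{w'} D]

variable (C) in
/-- `K⁺(Inj) ⥤ D⁺`. -/
noncomputable abbrev injQh : HomotopyCategory.Plus (InjectiveObject C) ⥤ DerivedCategory.Plus C :=
  (InjectiveObject.ι C).mapHomotopyCategoryPlus ⋙ DerivedCategory.Plus.Qh

theorem injQh_map_bijective (K L : HomotopyCategory.Plus (InjectiveObject C)) :
    Function.Bijective ((injQh C).map : (K ⟶ L) → _) := by
  obtain ⟨L', rfl⟩ := HomotopyCategory.Plus.quotient_obj_surjective L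
  exact (DerivedCategory.Plus.Qh_map_bijective_of_isKInjective _ _
    (inferInstanceAs (CochainComplex.IsKInjective
      (((InjectiveObject.ι C).mapHomologicalComplex (.up ℤ)).obj L'.obj)))).comp
    ((Functor.FullyFaithful.ofFullyFaithful
      (InjectiveObject.ι C).mapHomotopyCategoryPlus).map_bijective _ _)

instance : (injQh C).Full := ⟨fun {_ _} f => (injQh_map_bijective _ _).2 f⟩
instance : (injQh C).Faithful := ⟨fun {_ _} _ _ h => (injQh_map_bijective _ _).1 h⟩
instance : (injQh C).IsEquivalence where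

variable (C) in
/-- The equivalence `K⁺(Inj) ≌ D⁺`. -/
noncomputable abbrev injEquiv :
    HomotopyCategory.Plus (InjectiveObject C) ≌ DerivedCategory.Plus C :=
  (injQh C).asEquivalence

noncomputable instance : (injEquiv C).functor.CommShift ℤ :=
  (inferInstance : (injQh C).CommShift ℤ)

instance : (injEquiv C).functor.IsTriangulated := (inferInstance : (injQh C).IsTriangulated)

variable (F : C ⥤ D) [F.Additive]

/-- The functor computed on injectives. -/
noncomputable abbrev onInjectives :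
    HomotopyCategory.Plus (InjectiveObject C) ⥤ DerivedCategory.Plus D :=
  (InjectiveObject.ι C).mapHomotopyCategoryPlus ⋙ F.mapHomotopyCategoryPlus ⋙
    DerivedCategory.Plus.Qh

theorem exists_iso_isTriangulated :
    ∃ (G : DerivedCategory.Plus C ⥤ DerivedCategory.Plus D) (_ : G.CommShift ℤ)
      (_ : G.IsTriangulated), Nonempty (G ≅ F.rightDerivedFunctorPlus) := by
  letI : (injEquiv C).inverse.CommShift ℤ := (injEquiv C).commShiftInverse ℤ
  haveI : (injEquiv C).CommShift ℤ := (injEquiv C).commShift_of_functor ℤ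
  haveI : (injEquiv C).IsTriangulated := Equivalence.IsTriangulated.mk' (injEquiv C) inferInstance
  haveI : ∀ K : HomotopyCategory.Plus (InjectiveObject C),
      IsIso ((Functor.whiskerLeft (InjectiveObject.ι C).mapHomotopyCategoryPlus
        F.rightDerivedFunctorPlusUnit).app K) := fun K => by
    dsimp only [Functor.whiskerLeft_app]
    infer_instance
  haveI := NatIso.isIso_of_isIso_app (Functor.whiskerLeft
    (InjectiveObject.ι C).mapHomotopyCategoryPlus F.rightDerivedFunctorPlusUnit)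
  let α : onInjectives F ≅ (injEquiv C).functor ⋙ F.rightDerivedFunctorPlus :=
    asIso (Functor.whiskerLeft (InjectiveObject.ι C).mapHomotopyCategoryPlus
      F.rightDerivedFunctorPlusUnit) ≪≫ (Functor.associator _ _ _).symm
  exact ⟨(injEquiv C).inverse ⋙ onInjectives F, inferInstance, inferInstance,
    ⟨Functor.isoWhiskerLeft (injEquiv C).inverse α ≪≫ (Functor.associator _ _ _).symm ≪≫
      Functor.isoWhiskerRight (injEquiv C).counitIso _ ≪≫ Functor.leftUnitor _⟩⟩

theorem exact_transfer {A : Type*} [Category A] [Abelian A] {X Y Z X' Y' Z' : A}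
    {f : X ⟶ Y} {g : Y ⟶ Z} {w : f ≫ g = 0} (h : (ShortComplex.mk f g w).Exact)
    (a : X ≅ X') (b : Y ≅ Y') (c : Z ≅ Z') {f' : X' ⟶ Y'} {g' : Y' ⟶ Z'}
    (hf : a.hom ≫ f' = f ≫ b.hom) (hg : b.hom ≫ g' = g ≫ c.hom) :
    kernelSubobject g' = imageSubobject f' := by
  have w' : f' ≫ g' = 0 := by
    rw [← cancel_epi a.hom, ← Category.assoc, hf, Category.assoc, hg, ← Category.assoc, w,
      zero_comp, comp_zero]
  exact (((ShortComplex.exact_iff_image_eq_kernel _).mp
    ((ShortComplex.exact_iff_of_iso (ShortComplex.isoMk a b c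
      (S₂ := ShortComplex.mk f' g' w') hf hg)).mp h))).symm

omit [EnoughInjectives C] in
theorem cancel_shift_aux {A A' B B' M : DerivedCategory C} (a : A ≅ A') (b : B ≅ B')
    (d : B' ⟶ A'⟦(1 : ℤ)⟧) (c : M ≅ A⟦(1 : ℤ)⟧) :
    ((b.hom ≫ d ≫ a.inv⟦(1 : ℤ)⟧' ≫ c.inv) ≫ c.hom) ≫ a.hom⟦(1 : ℤ)⟧' = b.hom ≫ d := by
  simp only [Category.assoc, c.inv_hom_id, Category.id_comp]
  rw [← Functor.map_comp, a.inv_hom_id, CategoryTheory.Functor.map_id,
    Category.comp_id]

omit [EnoughInjectives C] in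
theorem exists_distTriang_plus {X₁ X₂ X₃ : CochainComplex.Plus C} (f : X₁ ⟶ X₂) (g : X₂ ⟶ X₃)
    (w : (CochainComplex.Plus.ι C).map f ≫ (CochainComplex.Plus.ι C).map g = 0)
    (hS : (ShortComplex.mk _ _ w).ShortExact) :
    ∃ δ, Triangle.mk (DerivedCategory.Plus.Q.map f) (DerivedCategory.Plus.Q.map g) δ ∈
      distTriang (DerivedCategory.Plus C) := by
  let ι := DerivedCategory.Plus.ι (C := C)
  let T := DerivedCategory.triangleOfSES hS
  have hT : T ∈ distTriang _ := DerivedCategory.triangleOfSES_distinguished hS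
  let eQ : ∀ X : CochainComplex.Plus C,
      ι.obj (DerivedCategory.Plus.Q.obj X) ≅ DerivedCategory.Q.obj X.obj :=
    fun X => (DerivedCategory.quotientCompQhIso C).app X.obj
  obtain ⟨δ, hδ⟩ := ι.map_surjective
    ((eQ X₃).hom ≫ T.mor₃ ≫ ((eQ X₁).inv)⟦(1 : ℤ)⟧' ≫
      (ι.commShiftIso (1 : ℤ)).inv.app (DerivedCategory.Plus.Q.obj X₁))
  refine ⟨δ, (ι.map_distinguished_iff _).mp ?_⟩
  refine isomorphic_distinguished _ hT _ (Triangle.isoMk _ _ (eQ X₁) (eQ X₂) (eQ X₃)
    ((DerivedCategory.quotientCompQhIso C).hom.naturality _)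
    ((DerivedCategory.quotientCompQhIso C).hom.naturality _) ?_)
  show (ι.map δ ≫ (ι.commShiftIso (1 : ℤ)).hom.app (DerivedCategory.Plus.Q.obj X₁)) ≫
    (eQ X₁).hom⟦(1 : ℤ)⟧' = (eQ X₃).hom ≫ T.mor₃
  rw [hδ]
  exact cancel_shift_aux (eQ X₁) (eQ X₃) T.mor₃
    ((ι.commShiftIso (1 : ℤ)).app (DerivedCategory.Plus.Q.obj X₁))

/-- Long exact sequence of `Hⁱ(RF -)` attached to a distinguished triangle of `D⁺`. -/
theorem exists_δ_exact_of_distTriang (T : Triangle (DerivedCategory.Plus C))
    (hT : T ∈ distTriang _) (i : ℤ) :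
    let H := fun n : ℤ => F.rightDerivedFunctorPlus ⋙ DerivedCategory.Plus.ι ⋙
      DerivedCategory.homologyFunctor D n
    kernelSubobject ((H i).map T.mor₂) = imageSubobject ((H i).map T.mor₁) ∧
      ∃ δ : (H i).obj T.obj₃ ⟶ (H (i + 1)).obj T.obj₁,
        kernelSubobject δ = imageSubobject ((H i).map T.mor₂) ∧
        kernelSubobject ((H (i + 1)).map T.mor₁) = imageSubobject δ := by
  intro H
  obtain ⟨G, _, _, ⟨φ⟩⟩ := exists_iso_isTriangulated F
  have hT' : DerivedCategory.Plus.ι.mapTriangle.obj (G.mapTriangle.obj T) ∈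
      distTriang (DerivedCategory D) :=
    DerivedCategory.Plus.ι.map_distinguished _ (G.map_distinguished _ hT)
  let ψ : ∀ n, (G ⋙ DerivedCategory.Plus.ι ⋙ DerivedCategory.homologyFunctor D n) ≅ H n :=
    fun n => Functor.isoWhiskerRight φ _
  set T' := DerivedCategory.Plus.ι.mapTriangle.obj (G.mapTriangle.obj T) with hT'def
  have h2 := DerivedCategory.HomologySequence.exact₂ T' hT' i
  have h3 := DerivedCategory.HomologySequence.exact₃ T' hT' i (i + 1) rfl
  have h1 := DerivedCategory.HomologySequence.exact₁ T' hT' i (i + 1) rfl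
  refine ⟨?_, ((ψ i).app T.obj₃).inv ≫ DerivedCategory.HomologySequence.δ T' i (i + 1) rfl ≫
    ((ψ (i + 1)).app T.obj₁).hom, ?_, ?_⟩
  · exact exact_transfer h2 ((ψ i).app T.obj₁) ((ψ i).app T.obj₂) ((ψ i).app T.obj₃)
      (((ψ i).hom.naturality _).symm) (((ψ i).hom.naturality _).symm)
  · exact exact_transfer h3 ((ψ i).app T.obj₂) ((ψ i).app T.obj₃) ((ψ (i + 1)).app T.obj₁)
      (((ψ i).hom.naturality _).symm) (Iso.hom_inv_id_assoc ((ψ i).app T.obj₃) _)
  · exact exact_transfer h1 ((ψ i).app T.obj₃) ((ψ (i + 1)).app T.obj₁) ((ψ (i + 1)).app T.obj₂)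
      (Iso.hom_inv_id_assoc ((ψ i).app T.obj₃) _) (((ψ (i + 1)).hom.naturality _).symm)

end Groth.Agent.RDPlus
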